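import Cfsg.Agent.Lib.ThK83.Tables

/-! Generated: the tables are inverted by those of the inverse letters. -/

set_option maxRecDepth 100000
set_option maxHeartbeats 0

namespace Cfsg.Agent.Lib.ThK83

theorem invOK5 : rangeB (fun b => tabs.invOK 5 (Nat.mul b 1911) 1911) 9 0 = true := by
  decide +kernel

theorem invOK6 : rangeB (fun b => tabs.invOK 6 (Nat.mul b 1911) 1911) 9 0 = true := by
  decide +kernel

theorem invOK7 : rangeB (fun b => tabs.invOK 7 (Nat.mul b 1911) 1911) 9 0 = true := by
  decide +kernel

theorem invOK8 : rangeB (fun b => tabs.invOK 8 (Nat.mul b 1911) 1911) 9 0 = true := by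
  decide +kernel

end Cfsg.Agent.Lib.ThK83
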