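import Mathlib
import Cfsg.Agent.Lib.ThK83.Sound
import Cfsg.Agent.Lib.ThK83.TabCheck0
import Cfsg.Agent.Lib.ThK83.TabCheck1

/-!
The nine letters as permutations of the 17199 points, and the group `Kbar` generated by them.
-/

set_option autoImplicit false

namespace Cfsg.Agent.Lib.ThK83

theorem invOK_all : ∀ l < 9,
    rangeB (fun b => tabs.invOK l (Nat.mul b 1911) 1911) 9 0 = true := by
  intro l hl
  interval_cases l
  exacts [invOK0, invOK1, invOK2, invOK3, invOK4, invOK5, invOK6, invOK7, invOK8]

theorem tabs_spec {l p : ℕ} (hl : l < 9) (hp : p < 17199) :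
    tabs.act l p < 17199 ∧ tabs.act (invL l) (tabs.act l p) = p := by
  have h := rangeB_spec (invOK_all l hl) (p / 1911) (Nat.zero_le _) (by omega)
  unfold Tabs.invOK at h
  have h' := rangeB_spec h p
    (by show p / 1911 * 1911 ≤ p; omega) (by show p < p / 1911 * 1911 + 1911; omega)
  simp only [hold_eq, band_eq, Bool.and_eq_true, bltN_iff, beqN_iff] at h'
  exact h'

theorem invL_spec : ∀ l < 9, invL l < 9 ∧ invL (invL l) = l := by decide

/-- one letter as a permutation of the points -/
noncomputable def letter (l : ℕ) : Equiv.Perm (Fin 17199) :=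
  if hl : l < 9 then
    { toFun := fun p => ⟨tabs.act l p, (tabs_spec hl p.2).1⟩
      invFun := fun p => ⟨tabs.act (invL l) p, (tabs_spec (invL_spec l hl).1 p.2).1⟩
      left_inv := fun p => Fin.ext (tabs_spec hl p.2).2
      right_inv := fun p => Fin.ext (by
        have := (tabs_spec (invL_spec l hl).1 p.2).2
        rwa [(invL_spec l hl).2] at this) }
  else 1

theorem letter_apply {l : ℕ} (hl : l < 9) (p : Fin 17199) :
    (letter l p : ℕ) = tabs.act l p := by
  rw [letter, dif_pos hl]; rfl

/-- the permutations act on the points from the right -/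
noncomputable def permRep : Rep tabs (Equiv.Perm (Fin 17199)) where
  f l := (letter l)⁻¹
  pt g p := if h : p < 17199 then ((g⁻¹ : Equiv.Perm (Fin 17199)) ⟨p, h⟩ : ℕ) else p
  pt_one p := by split <;> simp
  pt_mul a b p := by
    by_cases hp : p < 17199
    · simp [hp]
    · simp [hp]
  pt_lt g p hp := by
    rw [dif_pos hp]
    exact Fin.isLt _
  pt_f l p hl hp := by
    rw [dif_pos hp, inv_inv, letter_apply hl]

theorem permRep_pt (g : Equiv.Perm (Fin 17199)) (p : Fin 17199) :
    permRep.pt g p = ((g⁻¹ : Equiv.Perm (Fin 17199)) p : ℕ) := dif_pos p.2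

theorem perm_ext {a b : Equiv.Perm (Fin 17199)}
    (h : ∀ p < 17199, permRep.pt a p = permRep.pt b p) : a = b := by
  refine inv_inj.1 (Equiv.ext fun p => Fin.ext ?_)
  rw [← permRep_pt, ← permRep_pt]
  exact h p p.2

theorem permRep_inv {l : ℕ} (hl : l < 9) : permRep.f (invL l) = (permRep.f l)⁻¹ := by
  refine eq_inv_of_mul_eq_one_right (perm_ext fun p hp => ?_)
  rw [permRep.pt_mul, permRep.pt_f l p hl hp,
    permRep.pt_f _ _ (invL_spec l hl).1 (tabs_spec hl hp).1, permRep.pt_one]
  exact (tabs_spec hl hp).2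

/-- the group generated by the permutations of `a`, `b`, `c`, `d`, `e`, `s`, `t` -/
noncomputable def Kbar : Subgroup (Equiv.Perm (Fin 17199)) :=
  Subgroup.closure {permRep.f 0, permRep.f 1, permRep.f 2, permRep.f 3, permRep.f 4,
    permRep.f 5, permRep.f 7}

theorem permRep_f_mem : ∀ l : ℕ, permRep.f l ∈ Kbar := by
  intro l
  have h : ∀ l ∈ [0, 1, 2, 3, 4, 5, 7], permRep.f l ∈ Kbar := fun l hl =>
    Subgroup.subset_closure (by
      simp only [List.mem_cons, List.not_mem_nil, or_false] at hl
      rcases hl with rfl | rfl | rfl | rfl | rfl | rfl | rfl <;> simp)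
  by_cases hl : l < 9
  · interval_cases l
    all_goals first
      | exact h _ (by decide)
      | exact (permRep_inv (l := 5) (by decide)).symm ▸ inv_mem (h 5 (by decide))
      | exact (permRep_inv (l := 7) (by decide)).symm ▸ inv_mem (h 7 (by decide))
  · show (letter l)⁻¹ ∈ Kbar
    rw [letter, dif_neg hl]; simp

/-- the letters inside `Kbar` -/
noncomputable def rep : Rep tabs Kbar where
  f l := ⟨permRep.f l, permRep_f_mem l⟩
  pt g p := permRep.pt g p
  pt_one p := permRep.pt_one p
  pt_mul a b p := permRep.pt_mul a b p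
  pt_lt g p := permRep.pt_lt g p
  pt_f l p := permRep.pt_f l p

theorem rep_inv {l : ℕ} (hl : l < 9) : rep.f (invL l) = (rep.f l)⁻¹ :=
  Subtype.ext (permRep_inv hl)

end Cfsg.Agent.Lib.ThK83
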