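import Cfsg.Agent.Lib.ThK83.K0Data
import Cfsg.Agent.Lib.ThK83.Tables
import Cfsg.Agent.Lib.ThK83.OrbData

/-! Generated: kernel checks of the certificate for `a, b, c, d, e, s`. -/

set_option maxRecDepth 100000

namespace Cfsg.Agent.Lib.ThK83

theorem k0_repsOK : tabs.repsOK base k0Cert = true := by decide +kernel

theorem k0_cycOK : tabs.cycOK hs0 n7 cyc7 w15 w27 = true := by decide +kernel

theorem k0_fix0 : rangeB (tabs.fixedIn hs0 cyc7) 1911 0 = true := by decide +kernel

theorem k0_fix1 : rangeB (tabs.fixedIn hs0 cyc7) 1911 1911 = true := by decide +kernel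

theorem k0_fix2 : rangeB (tabs.fixedIn hs0 cyc7) 1911 3822 = true := by decide +kernel

theorem k0_fix3 : rangeB (tabs.fixedIn hs0 cyc7) 1911 5733 = true := by decide +kernel

theorem k0_fix4 : rangeB (tabs.fixedIn hs0 cyc7) 1911 7644 = true := by decide +kernel

theorem k0_fix5 : rangeB (tabs.fixedIn hs0 cyc7) 1911 9555 = true := by decide +kernel

theorem k0_fix6 : rangeB (tabs.fixedIn hs0 cyc7) 1911 11466 = true := by decide +kernel

theorem k0_fix7 : rangeB (tabs.fixedIn hs0 cyc7) 1911 13377 = true := by decide +kernel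

theorem k0_fix8 : rangeB (tabs.fixedIn hs0 cyc7) 1911 15288 = true := by decide +kernel

theorem k0_cls0 : rangeB (tabs.clsOK base k0Cert) 91 0 = true := by decide +kernel

theorem k0_cls1 : rangeB (tabs.clsOK base k0Cert) 91 91 = true := by decide +kernel

theorem k0_cls2 : rangeB (tabs.clsOK base k0Cert) 91 182 = true := by decide +kernel

theorem k0_cls3 : rangeB (tabs.clsOK base k0Cert) 91 273 = true := by decide +kernel

theorem k0_cls4 : rangeB (tabs.clsOK base k0Cert) 91 364 = true := by decide +kernel

theorem k0_cls5 : rangeB (tabs.clsOK base k0Cert) 91 455 = true := by decide +kernel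

theorem k0_cls6 : rangeB (tabs.clsOK base k0Cert) 91 546 = true := by decide +kernel

theorem k0_cls7 : rangeB (tabs.clsOK base k0Cert) 91 637 = true := by decide +kernel

theorem k0_cls8 : rangeB (tabs.clsOK base k0Cert) 91 728 = true := by decide +kernel

end Cfsg.Agent.Lib.ThK83
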