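import Cfsg.Agent.Lib.ThK83.Kbar
import Cfsg.Agent.Lib.ThK83.K0Check

/-!
What the certificate says about the subgroup `Kzero` of `Kbar` generated by `a, b, c, d, e, s`.
-/

set_option autoImplicit false

namespace Cfsg.Agent.Lib.ThK83

/-- the subgroup of `Kbar` generated by `a, b, c, d, e, s` -/
noncomputable def Kzero : Subgroup Kbar :=
  Subgroup.closure {rep.f 0, rep.f 1, rep.f 2, rep.f 3, rep.f 4, rep.f 5}

theorem f_mem_Kzero {l : ℕ} (hl : l < 7) : rep.f l ∈ Kzero := by
  interval_cases l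
  iterate 6 exact Subgroup.subset_closure (by simp)
  exact (rep_inv (l := 5) (by decide)).symm ▸ inv_mem (Subgroup.subset_closure (by simp))

theorem ev_mem_Kzero {u : List ℕ} (h : inLow u = true) : rep.ev u ∈ Kzero :=
  list_prod_mem fun x hx => by
    obtain ⟨l, hl, rfl⟩ := List.mem_map.1 hx
    exact f_mem_Kzero (bltN_iff.1 (forallB_iff.1 h l hl))

theorem ev_letter {l : ℕ} (hl : l < 8) : rep.ev [l + 1] = rep.f l := by
  have : decode [l + 1] = [l] := by interval_cases l <;> rfl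
  rw [Rep.ev, this, List.map_singleton, List.prod_singleton]

theorem ev_eq_of_same {u v : List ℕ} (h : tabs.same base u v = true) : rep.ev u = rep.ev v :=
  rep.eq_of_same base_lt baseInj h

theorem pairOK_spec {u v : List ℕ} (h : tabs.pairOK base u v = true) :
    rep.ev u ∈ Kzero ∧ rep.ev v = (rep.ev u)⁻¹ := by
  simp only [Tabs.pairOK, band_eq, Bool.and_eq_true] at h
  have e := ev_eq_of_same h.2.2
  rw [rep.ev_append, rep.ev_nil] at e
  exact ⟨ev_mem_Kzero h.1, eq_inv_of_mul_eq_one_right e⟩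

/-- `a` -/
noncomputable def aK : Kbar := rep.f 0

/-- the representative `j` of the orbits of the centraliser of `a` on its conjugates -/
noncomputable def repY (j : ℕ) : Kbar := rep.ev (k0Cert.repWord j)

/-- the conjugates of `a` -/
noncomputable def conjX (i : ℕ) : Kbar := rep.ev (k0Cert.clsWord i)

theorem reps_facts : aK * aK = 1 ∧ k0Cert.reps.length = 4 ∧ repY 0 = aK ∧ conjX 0 = aK ∧
    (∀ j < 4, ∃ g ∈ Kzero, repY j = g * aK * g⁻¹) ∧
    (∀ l < 6, ∃ L : List ℕ, (∀ i ∈ L, i < 819) ∧ (L.map conjX).prod = rep.f l) ∧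
    (∀ j, 0 < j → j < 4 → tabs.ncOK base k0Cert j = true) ∧
    ∃ g ∈ Kzero, g * (aK * (repY 3 * (aK * (repY 3 * g⁻¹)))) = aK := by
  have h := k0_repsOK
  simp only [Tabs.repsOK, band_eq, Bool.and_eq_true, beqN_iff] at h
  obtain ⟨haa, hlen, hr0, hc0, hreps, hgens, hnc, hcp, hce⟩ := h
  have e1 : rep.ev [1] = aK := ev_letter (l := 0) (by decide)
  refine ⟨?_, hlen, (ev_eq_of_same hr0).trans e1, (ev_eq_of_same hc0).trans e1, ?_, ?_, ?_, ?_⟩
  · have e := ev_eq_of_same haa
    rw [show ([1, 1] : List ℕ) = [1] ++ [1] from rfl, rep.ev_append, e1, rep.ev_nil] at e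
    exact e
  · intro j hj
    obtain ⟨hg, hgi⟩ := pairOK_spec (rangeB_spec hreps j (Nat.zero_le _) (by omega))
    refine ⟨_, hg, ?_⟩
    rw [repY, K0Cert.repWord, rep.ev_append, rep.ev_append, e1, hgi, mul_assoc]
  · intro l hl
    have h' := rangeB_spec hgens l (Nat.zero_le _) (by omega)
    simp only [Tabs.genOK, band_eq, Bool.and_eq_true, forallB_iff, bltN_iff] at h'
    refine ⟨_, h'.1, ?_⟩
    rw [← ev_letter (l := l) (by omega), ← ev_eq_of_same h'.2]
    generalize nth [] k0Cert.gens l = L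
    induction L with
    | nil => rfl
    | cons i L ih =>
      rw [List.map_cons, List.prod_cons, ih]
      exact (rep.ev_append _ _).symm
  · intro j h0 hj
    exact rangeB_spec hnc j h0 (by omega)
  · obtain ⟨hg, hgi⟩ := pairOK_spec hcp
    refine ⟨_, hg, ?_⟩
    have e := ev_eq_of_same hce
    simp only [rep.ev_append, e1, hgi] at e
    exact e

theorem aK_inv : aK⁻¹ = aK := (eq_inv_of_mul_eq_one_right reps_facts.1).symm

theorem aK_mem : aK ∈ Kzero := f_mem_Kzero (l := 0) (by decide)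

theorem repY_mem {j : ℕ} (hj : j < 4) : repY j ∈ Kzero := by
  obtain ⟨g, hg, e⟩ := reps_facts.2.2.2.2.1 j hj
  rw [e]; exact mul_mem (mul_mem hg aK_mem) (inv_mem hg)

theorem clsOK_all {i : ℕ} (hi : i < 819) : tabs.clsOK base k0Cert i = true := by
  rcases lt_or_ge i 91 with h | h
  · exact rangeB_spec k0_cls0 i (Nat.zero_le _) (by omega)
  rcases lt_or_ge i 182 with h' | h'
  · exact rangeB_spec k0_cls1 i h (by omega)
  rcases lt_or_ge i 273 with h'' | h''
  · exact rangeB_spec k0_cls2 i h' (by omega)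
  rcases lt_or_ge i 364 with h₃ | h₃
  · exact rangeB_spec k0_cls3 i h'' (by omega)
  rcases lt_or_ge i 455 with h₄ | h₄
  · exact rangeB_spec k0_cls4 i h₃ (by omega)
  rcases lt_or_ge i 546 with h₅ | h₅
  · exact rangeB_spec k0_cls5 i h₄ (by omega)
  rcases lt_or_ge i 637 with h₆ | h₆
  · exact rangeB_spec k0_cls6 i h₅ (by omega)
  rcases lt_or_ge i 728 with h₇ | h₇
  · exact rangeB_spec k0_cls7 i h₆ (by omega)
  exact rangeB_spec k0_cls8 i h₇ (by omega)

/-- each conjugate is a conjugate of a representative by an element commuting with `a`, and the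
generators permute them -/
theorem conjX_spec {i : ℕ} (hi : i < 819) :
    (∃ j < 4, ∃ k ∈ Kzero, k * aK = aK * k ∧ conjX i = k * repY j * k⁻¹) ∧
      ∀ l < 6, ∃ n < 819, rep.f l * conjX i * (rep.f l)⁻¹ = conjX n := by
  have h := clsOK_all hi
  simp only [Tabs.clsOK, band_eq, Bool.and_eq_true, bltN_iff] at h
  obtain ⟨hp, hc, hj, hn⟩ := h
  obtain ⟨hk, hki⟩ := pairOK_spec hp
  have e1 : rep.ev [1] = aK := ev_letter (l := 0) (by decide)
  refine ⟨⟨_, reps_facts.2.1 ▸ hj, _, hk, ?_, ?_⟩, fun l hl => ?_⟩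
  · have e := ev_eq_of_same hc
    rw [rep.ev_append, rep.ev_append, e1] at e
    exact e
  · rw [conjX, K0Cert.clsWord, rep.ev_append, rep.ev_append, hki, ← mul_assoc]
    rfl
  · have h' := rangeB_spec hn l (Nat.zero_le _) (by omega)
    simp only [hold_eq, band_eq, Bool.and_eq_true, bltN_iff] at h'
    refine ⟨_, h'.1, ?_⟩
    have e := ev_eq_of_same h'.2
    rw [rep.ev_append, rep.ev_append, ev_letter (by omega)] at e
    rw [mul_inv_eq_iff_eq_mul]
    exact e

/-- `Kzero` permutes the conjugates -/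
theorem conj_conjX {g : Kbar} (hg : g ∈ Kzero) :
    ∀ i < 819, ∃ n < 819, g * conjX i * g⁻¹ = conjX n := by
  have hg' : g ∈ (Kzero.toSubmonoid) := hg
  rw [Kzero, Subgroup.closure_toSubmonoid_of_finite] at hg'
  clear hg
  induction hg' using Submonoid.closure_induction with
  | mem x hx =>
    intro i hi
    simp only [Set.mem_insert_iff, Set.mem_singleton_iff] at hx
    rcases hx with rfl | rfl | rfl | rfl | rfl | rfl
    exacts [(conjX_spec hi).2 0 (by decide), (conjX_spec hi).2 1 (by decide),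
      (conjX_spec hi).2 2 (by decide), (conjX_spec hi).2 3 (by decide),
      (conjX_spec hi).2 4 (by decide), (conjX_spec hi).2 5 (by decide)]
  | one => exact fun i hi => ⟨i, hi, by simp⟩
  | mul x y _ _ hx hy =>
    intro i hi
    obtain ⟨m, hm, e⟩ := hy i hi
    obtain ⟨n, hn, e'⟩ := hx m hm
    exact ⟨n, hn, by rw [← e', ← e]; group⟩

/-- every conjugate is `a` conjugated in `Kzero` -/
theorem conjX_eq {i : ℕ} (hi : i < 819) : ∃ g ∈ Kzero, conjX i = g * aK * g⁻¹ := by
  obtain ⟨⟨j, hj, k, hk, -, e⟩, -⟩ := conjX_spec hi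
  obtain ⟨g, hg, e'⟩ := reps_facts.2.2.2.2.1 j hj
  exact ⟨k * g, mul_mem hk hg, by rw [e, e']; group⟩

/-- `a` is in every subgroup that `Kzero` normalises and that contains `a` times a non-trivial
representative -/
theorem aK_mem_of_rep {N : Subgroup Kbar} (hN : ∀ k ∈ Kzero, ∀ n ∈ N, k * n * k⁻¹ ∈ N) {j : ℕ}
    (h0 : 0 < j) (hj : j < 4) (hy : aK * repY j ∈ N) : aK ∈ N := by
  have h := reps_facts.2.2.2.2.2.2.1 j h0 hj
  simp only [Tabs.ncOK, band_eq, Bool.and_eq_true, forallB_iff] at h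
  have e1 : rep.ev [1] = aK := ev_letter (l := 0) (by decide)
  rw [← e1, ← ev_eq_of_same h.2]
  obtain ⟨g, -, eg⟩ := reps_facts.2.2.2.2.1 j hj
  have hyi : repY j * aK ∈ N := by
    have : repY j * aK = (aK * repY j)⁻¹ := by
      rw [eg]; simp [mul_assoc, aK_inv]
    rw [this]; exact inv_mem hy
  obtain ⟨hpairs, -⟩ := h
  revert hpairs
  generalize nth [] k0Cert.ncs j = L
  induction L with
  | nil => exact fun _ => one_mem N
  | cons x L ih =>
    intro hp
    show rep.ev (k0Cert.termWord j x ++ k0Cert.ncWord j L) ∈ N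
    rw [rep.ev_append]
    refine mul_mem ?_ (ih fun y hy' => hp y (List.mem_cons_of_mem _ hy'))
    obtain ⟨hx, hxi⟩ := pairOK_spec (hp x (List.mem_cons_self ..))
    obtain ⟨u, v, b⟩ := x
    rw [K0Cert.termWord, rep.ev_append, rep.ev_append, hxi, ← mul_assoc]
    refine hN _ hx _ ?_
    cases b
    · show rep.ev ([1] ++ k0Cert.repWord j) ∈ N
      rw [rep.ev_append, e1]; exact hy
    · show rep.ev (k0Cert.repWord j ++ [1]) ∈ N
      rw [rep.ev_append, e1]; exact hyi

end Cfsg.Agent.Lib.ThK83
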