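import Cfsg.Prelude.Def_Exceptional
import Cfsg.Agent.Lib.ThK83.K0Words

/-!
`Kzero = ⟨a, b, c, d, e, s⟩` has index three in `Kbar`, is simple of order `211341312`, and
satisfies `Cfsg.Is3D4`; every non-trivial normal subgroup of `Kbar` contains it.
-/

set_option autoImplicit false

namespace Cfsg.Agent.Lib.ThK83

theorem kRel_three : KRel (1 : Multiplicative (ZMod 3)) 1 1 1 1 1
    (Multiplicative.ofAdd (1 : ZMod 3)) := by
  unfold KRel
  decide +kernel

theorem exists_sign : ∃ φ : Kbar →* Multiplicative (ZMod 3),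
    Kzero ≤ φ.ker ∧ φ (rep.f 7) = Multiplicative.ofAdd 1 := by
  obtain ⟨φ, hφ, -⟩ := exists_hom kRel_three
  refine ⟨φ, (Subgroup.closure_le _).2 ?_, hφ 7 (by decide)⟩
  intro x hx
  simp only [Set.mem_insert_iff, Set.mem_singleton_iff] at hx
  rcases hx with rfl | rfl | rfl | rfl | rfl | rfl <;>
    exact MonoidHom.mem_ker.2 ((hφ _ (by decide)).trans rfl)

/-- the map onto the group of order three -/
noncomputable def sign3 : Kbar →* Multiplicative (ZMod 3) := exists_sign.choose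

theorem sign3_t : sign3 (rep.f 7) = Multiplicative.ofAdd 1 := exists_sign.choose_spec.2

theorem Kzero_le_ker : Kzero ≤ sign3.ker := exists_sign.choose_spec.1

theorem rel_t_comm : ∀ l < 5, tabs.same base [8, l + 1] [l + 1, 8] = true := by decide +kernel

theorem rel_t_s : tabs.same base [8, 6, 6] [6, 8] = true := by decide +kernel

theorem rel_t_cube : tabs.same base [8, 8, 8] [] = true := by decide +kernel

theorem rel_s_seven : tabs.same base [6, 6, 6, 6, 6, 6, 6] [] = true := by decide +kernel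

theorem t_normalises : ∀ x ∈ Kzero, rep.f 7 * x * (rep.f 7)⁻¹ ∈ Kzero := by
  intro x hx
  have key : ∀ l < 6, rep.f 7 * rep.f l * (rep.f 7)⁻¹ ∈ Kzero := by
    intro l hl
    have e8 : rep.ev [8] = rep.f 7 := ev_letter (l := 7) (by decide)
    rcases lt_or_ge l 5 with h | h
    · have e := ev_eq_of_same (rel_t_comm l h)
      rw [show [8, l + 1] = [8] ++ [l + 1] from rfl, show [l + 1, 8] = [l + 1] ++ [8] from rfl,
        rep.ev_append, rep.ev_append, e8, ev_letter (by omega)] at e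
      rw [e, mul_inv_cancel_right]
      exact f_mem_Kzero (by omega)
    · obtain rfl : l = 5 := by omega
      have e6 : rep.ev [6] = rep.f 5 := ev_letter (l := 5) (by decide)
      have e := ev_eq_of_same rel_t_s
      rw [show ([8, 6, 6] : List ℕ) = [8] ++ ([6] ++ [6]) from rfl,
        show ([6, 8] : List ℕ) = [6] ++ [8] from rfl] at e
      simp only [rep.ev_append, e8, e6] at e
      have h7 := ev_eq_of_same rel_s_seven
      rw [show ([6, 6, 6, 6, 6, 6, 6] : List ℕ) =
        [6] ++ ([6] ++ ([6] ++ ([6] ++ ([6] ++ ([6] ++ [6]))))) from rfl] at h7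
      simp only [rep.ev_append, rep.ev_nil, e6] at h7
      have hs : rep.f 5 = (rep.f 5 * rep.f 5) ^ 4 := by
        have : rep.f 5 ^ 8 = rep.f 5 := by
          rw [show 8 = 7 + 1 from rfl, pow_succ, show rep.f 5 ^ 7 = 1 by
            simpa [pow_succ, mul_assoc] using h7, one_mul]
        rw [← pow_two, ← pow_mul, this]
      rw [hs, ← conj_pow]
      refine pow_mem ?_ 4
      rw [e, mul_inv_cancel_right]
      exact f_mem_Kzero (by decide)
  induction hx using Subgroup.closure_induction with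
  | mem y hy =>
    simp only [Set.mem_insert_iff, Set.mem_singleton_iff] at hy
    rcases hy with rfl | rfl | rfl | rfl | rfl | rfl
    exacts [key 0 (by decide), key 1 (by decide), key 2 (by decide), key 3 (by decide),
      key 4 (by decide), key 5 (by decide)]
  | one => simp
  | mul y z _ _ hy hz => rw [← conj_mul]; exact mul_mem hy hz
  | inv y _ hy => rw [← conj_inv]; exact inv_mem hy

theorem Kzero_sup : Kzero ⊔ Subgroup.zpowers (rep.f 7) = ⊤ := by
  rw [eq_top_iff, ← closure_rep, Subgroup.closure_le]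
  intro x hx
  simp only [Set.mem_insert_iff, Set.mem_singleton_iff] at hx
  rcases hx with rfl | rfl | rfl | rfl | rfl | rfl | rfl
  iterate 6 exact Subgroup.mem_sup_left (f_mem_Kzero (by decide))
  exact Subgroup.mem_sup_right (Subgroup.mem_zpowers _)

theorem Kzero_eq_ker : Kzero = sign3.ker := by
  refine le_antisymm Kzero_le_ker fun g hg => ?_
  have hnorm : Subgroup.zpowers (rep.f 7) ≤ Subgroup.normalizer (Kzero : Set Kbar) := by
    rw [Subgroup.zpowers_le]
    exact Subgroup.mem_normalizer_fintype t_normalises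
  have : g ∈ ((Kzero ⊔ Subgroup.zpowers (rep.f 7) : Subgroup Kbar) : Set Kbar) := by
    rw [Kzero_sup]; trivial
  rw [Subgroup.coe_mul_of_right_le_normalizer_left _ _ hnorm] at this
  obtain ⟨k, hk, z, hz, rfl⟩ := this
  obtain ⟨m, rfl⟩ := Subgroup.mem_zpowers_iff.1 hz
  have h1 := MonoidHom.mem_ker.1 hg
  rw [map_mul, MonoidHom.mem_ker.1 (Kzero_le_ker hk), one_mul, map_zpow, sign3_t,
    ← ofAdd_zsmul, ofAdd_eq_one, zsmul_one, ZMod.intCast_zmod_eq_zero_iff_dvd] at h1
  obtain ⟨q, rfl⟩ := h1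
  have h3 := ev_eq_of_same rel_t_cube
  rw [show ([8, 8, 8] : List ℕ) = [8] ++ ([8] ++ [8]) from rfl] at h3
  simp only [rep.ev_append, rep.ev_nil, ev_letter (l := 7) (by decide)] at h3
  have h3' : rep.f 7 ^ (3 : ℤ) = 1 := by
    rw [show (3 : ℤ) = ((3 : ℕ) : ℤ) from rfl, zpow_natCast, pow_succ, pow_two, mul_assoc]
    exact h3
  show k * rep.f 7 ^ _ ∈ Kzero
  rw [Nat.cast_ofNat, zpow_mul, h3', one_zpow, mul_one]
  exact hk

instance Kzero_normal : Kzero.Normal := Kzero_eq_ker ▸ inferInstance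

theorem index_Kzero : Kzero.index = 3 := by
  rw [Kzero_eq_ker, Subgroup.index_ker]
  have : sign3.range = ⊤ := by
    rw [eq_top_iff]
    rintro x -
    refine ⟨rep.f 7 ^ (Multiplicative.toAdd x).val, ?_⟩
    rw [map_pow, sign3_t, ← ofAdd_nsmul, nsmul_one, ZMod.natCast_zmod_val]
    rfl
  rw [this]
  simp

theorem card_Kzero : Nat.card Kzero = 211341312 := by
  have := Kzero.card_mul_index
  rw [index_Kzero, card_Kbar] at this
  omega

theorem fix_all {p : ℕ} (hp : p < 17199) : tabs.fixedIn hs0 cyc7 p = true := by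
  have : ∀ b < 9, rangeB (tabs.fixedIn hs0 cyc7) 1911 (b * 1911) = true := by
    intro b hb
    interval_cases b
    exacts [k0_fix0, k0_fix1, k0_fix2, k0_fix3, k0_fix4, k0_fix5, k0_fix6, k0_fix7, k0_fix8]
  exact rangeB_spec (this (p / 1911) (by omega)) p (by omega) (by omega)

theorem pow_seven_of_comm {g : Kbar} (hg : ∀ k ∈ Kzero, g * k = k * g) : g ^ 7 = 1 := by
  have h := k0_cycOK
  simp only [Tabs.cycOK, band_eq, Bool.and_eq_true, forallB_iff, beqN_iff] at h
  obtain ⟨hhs, hn, hw1, hw2, h15, h27, hlen, hc0, hcyc⟩ := h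
  have hcomm : ∀ u : List ℕ, inLow u = true → ∀ p < 17199,
      rep.pt g (tabs.go u p) = tabs.go u (rep.pt g p) := by
    intro u hu p hp
    rw [rep.go_eq u p hp, rep.go_eq u _ (rep.pt_lt g p hp), ← rep.pt_mul, ← rep.pt_mul,
      hg _ (ev_mem_Kzero hu)]
  -- the image of `0`
  have hmem : rep.pt g 0 ∈ cyc7 := by
    have h' := fix_all (rep.pt_lt g 0 (by decide))
    unfold Tabs.fixedIn at h'
    have hall : forallB (fun h => Nat.beq (tabs.go h (rep.pt g 0)) (rep.pt g 0)) hs0 = true := by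
      rw [forallB_iff]
      intro u hu
      rw [beqN_iff, ← hcomm u (hhs u hu).1 0 (by decide), (hhs u hu).2]
    rw [hall] at h'
    exact memN_iff.1 h'
  obtain ⟨k, hk, hkp⟩ := List.mem_iff_getElem.1 hmem
  rw [hlen] at hk
  have hnth : ∀ k < 7, nth 0 cyc7 k < 17199 := by
    intro k hk
    rw [nth_eq, List.getD_eq_getElem _ _ (by rw [hlen]; exact hk)]
    have : ∀ x ∈ cyc7, x < 17199 := by decide
    exact this _ (List.getElem_mem _)
  -- the powers of `n7` move `0` along the cycle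
  have hgn : ∀ m, rep.pt (rep.ev n7 ^ m) 0 = nth 0 cyc7 (m % 7) := by
    intro m
    induction m with
    | zero => rw [pow_zero, rep.pt_one]; exact hc0.symm
    | succ m ih =>
      have h' := rangeB_spec hcyc (m % 7) (Nat.zero_le _) (by omega)
      rw [beqN_iff, rep.go_eq n7 _ (hnth _ (by omega))] at h'
      rw [pow_succ, rep.pt_mul, ih, h']
      exact congrArg _ (by rw [show Nat.succ (m % 7) = m % 7 + 1 from rfl]; exact
        (show (m % 7 + 1) % 7 = (m + 1) % 7 by omega))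
  have hg0 : rep.pt g 0 = rep.pt (rep.ev n7 ^ k) 0 := by
    rw [hgn, Nat.mod_eq_of_lt hk, nth_eq, List.getD_eq_getElem _ _ (by rw [hlen]; exact hk), hkp]
  have hcn : Commute g (rep.ev n7 ^ k) :=
    (show Commute g (rep.ev n7) from hg _ (ev_mem_Kzero hn)).pow_right k
  have hgm : ∀ m, rep.pt (g ^ m) 0 = rep.pt (rep.ev n7 ^ (k * m)) 0 := by
    intro m
    induction m with
    | zero => simp
    | succ m ih =>
      rw [pow_succ', rep.pt_mul, hg0, ← rep.pt_mul, (hcn.pow_left m).symm.eq, rep.pt_mul, ih,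
        ← rep.pt_mul, ← pow_add]
      congr 2
  have h70 : rep.pt (g ^ 7) 0 = 0 := by
    rw [hgm 7, hgn, Nat.mul_mod_left, hc0]
  refine baseInj _ ((rep.imgs_eq_iff _ base).2 ?_)
  intro p hp
  have hw : ∀ u : List ℕ, inLow u = true → tabs.go u 0 = p → rep.pt (g ^ 7) p = p := by
    intro u hu hu0
    rw [← hu0, rep.go_eq u 0 (by decide), ← rep.pt_mul,
      ← (Commute.pow_left (show Commute g (rep.ev u) from hg _ (ev_mem_Kzero hu)) 7).eq,
      rep.pt_mul, h70]
  simp only [base, List.mem_cons, List.not_mem_nil, or_false] at hp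
  rcases hp with rfl | rfl | rfl
  exacts [h70, hw w15 hw1 h15, hw w27 hw2 h27]

/-- every commutator map of `Kzero` is trivial -/
theorem hom_trivial {A : Type*} [CommGroup A] (f : Kzero →* A) (x : Kzero) : f x = 1 := by
  obtain ⟨g, hg, e⟩ := reps_facts.2.2.2.2.2.2.2
  have fa : f ⟨aK, aK_mem⟩ = 1 := by
    have e' : (⟨g, hg⟩ : Kzero) * (⟨aK, aK_mem⟩ * (⟨repY 3, repY_mem (by decide)⟩ *
        (⟨aK, aK_mem⟩ * (⟨repY 3, repY_mem (by decide)⟩ * (⟨g, hg⟩)⁻¹)))) = ⟨aK, aK_mem⟩ :=
      Subtype.ext e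
    obtain ⟨u, hu, eu⟩ := reps_facts.2.2.2.2.1 3 (by decide)
    have hy : f ⟨repY 3, repY_mem (by decide)⟩ = f ⟨aK, aK_mem⟩ := by
      have : (⟨repY 3, repY_mem (by decide)⟩ : Kzero) = ⟨u, hu⟩ * ⟨aK, aK_mem⟩ * (⟨u, hu⟩)⁻¹ :=
        Subtype.ext eu
      rw [this, map_mul, map_mul, map_inv, mul_inv_cancel_comm]
    have h2 : f ⟨aK, aK_mem⟩ * f ⟨aK, aK_mem⟩ = 1 := by
      rw [← map_mul, ← map_one f]; exact congrArg f (Subtype.ext reps_facts.1)
    have h4 := congrArg f e'
    simp only [map_mul, map_inv, hy] at h4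
    generalize f ⟨aK, aK_mem⟩ = A at h2 h4 ⊢
    generalize f ⟨g, hg⟩ = G at h4
    calc A = G * (A * (A * (A * (A * G⁻¹)))) := h4.symm
      _ = (A * A) * (A * A) * (G * G⁻¹) := by ac_rfl
      _ = 1 := by rw [h2, mul_inv_cancel, one_mul, one_mul]
  have hle : Kzero ≤ f.ker.map Kzero.subtype := by
    refine (Subgroup.closure_le _).2 ?_
    intro y hy
    obtain ⟨l, hl, rfl⟩ : ∃ l < 6, rep.f l = y := by
      simp only [Set.mem_insert_iff, Set.mem_singleton_iff] at hy
      rcases hy with rfl | rfl | rfl | rfl | rfl | rfl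
      exacts [⟨0, by decide, rfl⟩, ⟨1, by decide, rfl⟩, ⟨2, by decide, rfl⟩, ⟨3, by decide, rfl⟩,
        ⟨4, by decide, rfl⟩, ⟨5, by decide, rfl⟩]
    obtain ⟨L, hL, hprod⟩ := reps_facts.2.2.2.2.2.1 l hl
    rw [← hprod]
    refine list_prod_mem fun z hz => ?_
    obtain ⟨i, hi, rfl⟩ := List.mem_map.1 hz
    obtain ⟨u, hu, e⟩ := conjX_eq (hL i hi)
    refine ⟨⟨u, hu⟩ * ⟨aK, aK_mem⟩ * (⟨u, hu⟩)⁻¹, ?_, e.symm⟩
    show f _ = 1
    rw [map_mul, map_mul, map_inv, fa, mul_one, mul_inv_cancel]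
  obtain ⟨y, hy, e⟩ := hle x.2
  rw [← Subtype.ext e]
  exact hy

/-- only the identity of `Kbar` commutes with `Kzero` -/
theorem eq_one_of_comm {g : Kbar} (hg : ∀ k ∈ Kzero, g * k = k * g) : g = 1 := by
  have h7 := pow_seven_of_comm hg
  have hgK : g ∈ Kzero := by
    rw [Kzero_eq_ker, MonoidHom.mem_ker]
    have h := congrArg sign3 h7
    rw [map_pow, map_one] at h
    revert h
    generalize sign3 g = x
    revert x
    decide
  have : Fact (Nat.Prime 7) := ⟨by decide⟩
  obtain ⟨Q, hQ⟩ := Sylow.exists_subgroup_card_pow_prime (G := Kzero) 7 (n := 2)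
    (by rw [card_Kzero]; decide)
  letI : CommGroup Q :=
    { (inferInstance : Group Q) with mul_comm := IsPGroup.commutative_of_card_eq_prime_sq hQ }
  let z : Kzero := ⟨g, hgK⟩
  have hz : ∀ y : Kzero, Commute z y := fun y => Subtype.ext (hg _ y.2)
  have key := MonoidHom.transfer_eq_pow (MonoidHom.id Q) z fun k g₀ _ => by
    rw [mul_assoc, ((hz g₀).pow_left k).eq, inv_mul_cancel_left]
  rw [hom_trivial, MonoidHom.id_apply] at key
  have hidx : Q.index = 4313088 := by
    have := Q.card_mul_index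
    rw [hQ, card_Kzero] at this
    omega
  have hz' : z ^ 4313088 = 1 := hidx ▸ (congrArg Subtype.val key).symm
  have hg' : g ^ 4313088 = 1 := by
    have h := congrArg Subtype.val hz'
    rw [Subgroup.coe_pow, Subgroup.coe_one] at h
    exact h
  have := pow_gcd_eq_one.2 ⟨hg', h7⟩
  rwa [show Nat.gcd 4313088 7 = 1 by decide, pow_one] at this

/-- a subgroup of `Kzero` normalised by it is trivial or everything -/
theorem eq_bot_or_eq_Kzero {N : Subgroup Kbar} (hle : N ≤ Kzero)
    (hN : ∀ k ∈ Kzero, ∀ n ∈ N, k * n * k⁻¹ ∈ N) : N = ⊥ ∨ N = Kzero := by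
  by_cases hc : ∀ n ∈ N, n * aK = aK * n
  · left
    rw [Subgroup.eq_bot_iff_forall]
    intro n hn
    have hcX : ∀ i < 819, conjX i ∈ Subgroup.centralizer {n} := by
      intro i hi
      obtain ⟨g, hg, e⟩ := conjX_eq hi
      rw [Subgroup.mem_centralizer_singleton_iff, e]
      have h := hc _ (hN g⁻¹ (inv_mem hg) n hn)
      rw [inv_inv] at h
      calc g * aK * g⁻¹ * n = g * (aK * (g⁻¹ * n * g)) * g⁻¹ := by group
        _ = g * ((g⁻¹ * n * g) * aK) * g⁻¹ := by rw [h]
        _ = _ := by group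
    have : Kzero ≤ Subgroup.centralizer {n} := by
      rw [Kzero, Subgroup.closure_le]
      intro y hy
      obtain ⟨l, hl, rfl⟩ : ∃ l < 6, rep.f l = y := by
        simp only [Set.mem_insert_iff, Set.mem_singleton_iff] at hy
        rcases hy with rfl | rfl | rfl | rfl | rfl | rfl
        exacts [⟨0, by decide, rfl⟩, ⟨1, by decide, rfl⟩, ⟨2, by decide, rfl⟩,
          ⟨3, by decide, rfl⟩, ⟨4, by decide, rfl⟩, ⟨5, by decide, rfl⟩]
      obtain ⟨L, hL, hprod⟩ := reps_facts.2.2.2.2.2.1 l hl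
      rw [← hprod]
      refine list_prod_mem fun z hz => ?_
      obtain ⟨i, hi, rfl⟩ := List.mem_map.1 hz
      exact hcX i (hL i hi)
    refine eq_one_of_comm fun k hk => ?_
    exact (Subgroup.mem_centralizer_singleton_iff.1 (this hk)).symm
  · right
    push Not at hc
    obtain ⟨n, hn, hne⟩ := hc
    refine le_antisymm hle ?_
    obtain ⟨i, hi, ei⟩ := conj_conjX (hle hn) 0 (by decide)
    rw [reps_facts.2.2.2.1] at ei
    have hai : aK * conjX i ∈ N := by
      rw [← ei, show aK * (n * aK * n⁻¹) = aK * n * aK⁻¹ * n⁻¹ by rw [aK_inv]; group]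
      exact mul_mem (hN _ aK_mem n hn) (inv_mem hn)
    obtain ⟨⟨j, hj, k, hk, hka, ek⟩, -⟩ := conjX_spec hi
    have haj : aK * repY j ∈ N := by
      have h := hN k⁻¹ (inv_mem hk) _ hai
      have e : k⁻¹ * (aK * conjX i) * k⁻¹⁻¹ = aK * repY j := by
        rw [ek, inv_inv]
        calc k⁻¹ * (aK * (k * repY j * k⁻¹)) * k = k⁻¹ * (aK * k) * repY j := by group
          _ = _ := by rw [← hka, inv_mul_cancel_left]
      rwa [e] at h
    have hj0 : 0 < j := by
      rcases Nat.eq_zero_or_pos j with rfl | h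
      · refine absurd ?_ hne
        rw [ek, reps_facts.2.2.1, hka, mul_inv_cancel_right] at ei
        exact mul_inv_eq_iff_eq_mul.1 ei
      · exact h
    have ha := aK_mem_of_rep hN hj0 hj haj
    rw [Kzero, Subgroup.closure_le]
    intro y hy
    obtain ⟨l, hl, rfl⟩ : ∃ l < 6, rep.f l = y := by
      simp only [Set.mem_insert_iff, Set.mem_singleton_iff] at hy
      rcases hy with rfl | rfl | rfl | rfl | rfl | rfl
      exacts [⟨0, by decide, rfl⟩, ⟨1, by decide, rfl⟩, ⟨2, by decide, rfl⟩, ⟨3, by decide, rfl⟩,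
        ⟨4, by decide, rfl⟩, ⟨5, by decide, rfl⟩]
    obtain ⟨L, hL, hprod⟩ := reps_facts.2.2.2.2.2.1 l hl
    rw [← hprod]
    refine list_prod_mem fun z hz => ?_
    obtain ⟨i', hi', rfl⟩ := List.mem_map.1 hz
    obtain ⟨g, hg, e⟩ := conjX_eq (hL i' hi')
    rw [e]; exact hN g hg _ ha

theorem Kzero_ne_bot : Kzero ≠ ⊥ := by
  intro h
  have := card_Kzero
  rw [h, Subgroup.card_bot] at this
  omega

/-- `Kzero` is simple -/
instance isSimpleGroup_Kzero : IsSimpleGroup Kzero :=
  { exists_pair_ne := (Subgroup.nontrivial_iff_ne_bot _).2 Kzero_ne_bot |>.exists_pair_ne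
    eq_bot_or_eq_top_of_normal := fun H hH => by
      rcases eq_bot_or_eq_Kzero (Subgroup.map_subtype_le H) (fun k hk n hn => by
          obtain ⟨m, hm, rfl⟩ := hn
          exact ⟨⟨k, hk⟩ * m * (⟨k, hk⟩)⁻¹, hH.conj_mem m hm _, rfl⟩) with h | h
      · exact Or.inl ((Subgroup.map_eq_bot_iff_of_injective _ Kzero.subtype_injective).1 h)
      · refine Or.inr (Subgroup.map_injective Kzero.subtype_injective ?_)
        rw [h, ← MonoidHom.range_eq_map, Subgroup.range_subtype] }

/-- the normal subgroups of `Kbar` -/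
theorem eq_bot_or_Kzero_le {N : Subgroup Kbar} (hN : N.Normal) : N = ⊥ ∨ Kzero ≤ N := by
  rcases eq_bot_or_eq_Kzero (N := N ⊓ Kzero) inf_le_right (fun k hk n hn =>
      ⟨hN.conj_mem n hn.1 k, Kzero.mul_mem (Kzero.mul_mem hk hn.2) (Kzero.inv_mem hk)⟩) with h | h
  · left
    rw [Subgroup.eq_bot_iff_forall]
    intro n hn
    refine eq_one_of_comm fun k hk => ?_
    have : n * k * n⁻¹ * k⁻¹ ∈ N ⊓ Kzero := by
      refine ⟨?_, Kzero.mul_mem (Kzero_normal.conj_mem k hk n) (Kzero.inv_mem hk)⟩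
      rw [show n * k * n⁻¹ * k⁻¹ = n * (k * n⁻¹ * k⁻¹) by group]
      exact N.mul_mem hn (hN.conj_mem _ (N.inv_mem hn) k)
    rw [h, Subgroup.mem_bot] at this
    exact mul_inv_eq_iff_eq_mul.1 (mul_inv_eq_one.1 this)
  · exact Or.inr (h ▸ inf_le_left)

/-- `Kzero` is a group of type `³D₄(2)` -/
theorem is3D4_Kzero : Cfsg.Is3D4 Kzero :=
  ⟨isSimpleGroup_Kzero, 2, Nat.prime_two.isPrimePow, by rw [card_Kzero]; norm_num⟩

/-- every prime order element of `Kbar` outside `Kzero` has order three -/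
theorem orderOf_eq_three {g : Kbar} (hg : g ∉ Kzero) {p : ℕ} (hp : p.Prime)
    (h : orderOf g = p) : p = 3 := by
  have : 3 ∣ orderOf g := by
    have hdvd := orderOf_map_dvd sign3 g
    refine dvd_trans ?_ hdvd
    have h3 : orderOf (sign3 g) ∣ 3 := by
      simpa using orderOf_dvd_natCard (sign3 g)
    rcases (Nat.dvd_prime Nat.prime_three).1 h3 with h1 | h1
    · exact absurd (Kzero_eq_ker ▸ MonoidHom.mem_ker.2 (orderOf_eq_one_iff.1 h1)) hg
    · rw [h1]
  rw [h] at this
  exact ((hp.eq_one_or_self_of_dvd 3 this).resolve_left (by decide)).symm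

end Cfsg.Agent.Lib.ThK83
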