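import Cfsg.Agent.Lib.ThK83.L2Data
import Cfsg.Agent.Lib.LyH.Sound

/-! The facts of the certificate are checked, and the table is closed. -/

namespace Cfsg.Agent.Lib.ThK83.L2

open LyH (Cert Table Cover)

set_option maxRecDepth 100000
set_option maxHeartbeats 0

theorem upto_0 (h : cert.Upto 0) : cert.Upto 8 :=
  Cert.Upto.step (L := [(8, 0x900000600000500000100000200000200000000001b00000900000600000300000100000200000200000000001800000900000100000600000200000100000100000000001600000600000000000100000100000000001400000000000000000000000000000000002000000000000000000000000000001f00000000000000000000000000001e)]) h (by decide +kernel) (by decide +kernel)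

theorem upto : cert.Upto 8 :=
  (upto_0 (Cert.Upto.zero _))

theorem cover : Cover cert table 8 where
  pos := by decide +kernel
  steps := upto
  rows := fun j hj => CosetTable.rangeAll_spec (m := 2) (i := 0) (by decide +kernel) j (Nat.zero_le _) (by simpa [table] using hj)
  gens_lt := by decide +kernel

end Cfsg.Agent.Lib.ThK83.L2
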