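import Cfsg.Agent.Lib.ThK83.Rel
import Cfsg.Agent.Lib.LyH.Sound
import Cfsg.Agent.Lib.ThK83.L1
import Cfsg.Agent.Lib.ThK83.L2
import Cfsg.Agent.Lib.ThK83.L3
import Cfsg.Agent.Lib.ThK83.L4
import Cfsg.Agent.Lib.ThK83.L5

/-!
A group generated by seven elements with the relators of groups 1-3 of the presentation of the
Thompson group has at most 634023936 elements: five levels of coset tables, the third on the
subgroup generated by `a`, `d c d`, `e`, `s`, `t`.
-/

set_option autoImplicit false

namespace Cfsg.Agent.Lib.ThK83

open LyH (Cert Model subG wev lab)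

variable {G : Type*} [Group G] {a b c d e s t : G}

/-- the letters of the certificates, in inverse pairs; `14` is `d c d` -/
def cLetters (a b c d e s t : G) (l : ℕ) : G :=
  [a, a⁻¹, b, b⁻¹, c, c⁻¹, d, d⁻¹, e, e⁻¹, s, s⁻¹, t, t⁻¹, d * c * d, (d * c * d)⁻¹, 1, 1].getD l 1

/-- a letter of the kernel evaluator as a letter of the certificates -/
def cOf (l : ℕ) : ℕ := [0, 2, 4, 6, 8, 10, 11, 12, 13].getD l 18

/-- all relators allowed in the certificates -/
def certRels : List (List ℕ) := [] :: [15, 6, 4, 6] :: relW.map (List.map cOf)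

theorem cLetters_inv (a b c d e s t : G) (l : ℕ) (hl : l < 18) :
    cLetters a b c d e s t (l ^^^ 1) = (cLetters a b c d e s t l)⁻¹ := by
  interval_cases l <;> simp [cLetters]

theorem lab_cOf (a b c d e s t : G) {l : ℕ} (hl : l < 9) :
    lab (cLetters a b c d e s t) (cOf l) = kVal a b c d e s t l := by
  interval_cases l <;> simp [lab, cLetters, cOf, kVal]

theorem certRels_one (h : KRel a b c d e s t) :
    ∀ w ∈ certRels, wev (cLetters a b c d e s t) w = 1 := by
  intro w hw
  simp only [certRels, List.mem_cons, List.mem_map] at hw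
  rcases hw with rfl | rfl | ⟨v, hv, rfl⟩
  · rfl
  · simp [wev, lab, cLetters, mul_assoc]
  · rw [wev, List.map_map, ← h v hv]
    exact congrArg List.prod (List.map_congr_left fun l hl =>
      lab_cOf a b c d e s t (relW_lt v hv l hl))

theorem model_of_sub (h : KRel a b c d e s t) {C : Cert}
    (hs : C.rels.all (fun w => certRels.contains w) = true) :
    Model (cLetters a b c d e s t) C where
  inv := cLetters_inv a b c d e s t
  rel w hw := certRels_one h w (List.contains_iff_mem.1 (List.all_eq_true.1 hs w hw))

theorem card_le_of_le {H K : Subgroup G} (hle : H ≤ K) {n : ℕ}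
    (h : Finite K ∧ Nat.card K ≤ n) : Finite H ∧ Nat.card H ≤ n := by
  have := h.1
  have e : Function.Injective (Subgroup.inclusion hle) := Subgroup.inclusion_injective hle
  exact ⟨Finite.of_injective _ e, (Nat.card_le_card_of_injective _ e).trans h.2⟩

/-- the bound on the order -/
theorem card_closure_le (h : KRel a b c d e s t) :
    Finite (Subgroup.closure ({a, b, c, d, e, s, t} : Set G)) ∧
      Nat.card (Subgroup.closure ({a, b, c, d, e, s, t} : Set G)) ≤ 634023936 := by
  let f := cLetters a b c d e s t
  have step : ∀ {S : List ℕ} {C : Cert} {n : ℕ},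
      (Finite (Subgroup.closure {x | ∃ l ∈ S, f l = x}) ∧
        Nat.card (Subgroup.closure {x | ∃ l ∈ S, f l = x}) ≤ n) →
      (∀ w ∈ C.subs, wev f w ∈ Subgroup.closure {x | ∃ l ∈ S, f l = x}) →
      Finite (subG f C) ∧ Nat.card (subG f C) ≤ n := fun hc hm => by
    refine card_le_of_le ((Subgroup.closure_le _).2 ?_) hc
    rintro x ⟨w, hw, rfl⟩
    exact hm w hw
  have b1 : Finite (subG f L1.cert) ∧ Nat.card (subG f L1.cert) ≤ 1 := by
    have hb : subG f L1.cert = ⊥ := by
      simp [subG, L1.cert]
    rw [hb]
    exact ⟨inferInstance, by simp⟩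
  have c1 := L1.cover.card_le (model_of_sub h (by decide +kernel)) b1
  have b2 := step (C := L2.cert) c1 (by
    intro w hw
    simp only [L2.cert, List.mem_cons, List.not_mem_nil, or_false] at hw
    rcases hw with rfl | rfl | rfl <;>
      exact Subgroup.subset_closure (by simp [f, wev, lab, cLetters, L1.table]))
  have c2 := L2.cover.card_le (model_of_sub h (by decide +kernel)) b2
  have b3 := step (C := L3.cert) c2 (by
    intro w hw
    simp only [L3.cert, List.mem_cons, List.not_mem_nil, or_false] at hw
    rcases hw with rfl | rfl | rfl | rfl <;>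
      exact Subgroup.subset_closure (by simp [f, wev, lab, cLetters, L2.table]))
  have c3 := L3.cover.card_le (model_of_sub h (by decide +kernel)) b3
  have b4 := step (C := L4.cert) c3 (by
    intro w hw
    simp only [L4.cert, List.mem_cons, List.not_mem_nil, or_false] at hw
    rcases hw with rfl | rfl | rfl | rfl | rfl <;>
      exact Subgroup.subset_closure (by simp [f, wev, lab, cLetters, L3.table, mul_assoc]))
  have c4 := L4.cover.card_le (model_of_sub h (by decide +kernel)) b4
  have b5 := step (C := L5.cert) c4 (by
    intro w hw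
    simp only [L5.cert, List.mem_cons, List.not_mem_nil, or_false] at hw
    rcases hw with rfl | rfl | rfl | rfl | rfl | rfl <;>
      exact Subgroup.subset_closure (by simp [f, wev, lab, cLetters, L4.table]))
  have c5 := L5.cover.card_le (model_of_sub h (by decide +kernel)) b5
  refine card_le_of_le ((Subgroup.closure_le _).2 ?_) c5
  intro x hx
  simp only [Set.mem_insert_iff, Set.mem_singleton_iff] at hx
  rcases hx with rfl | rfl | rfl | rfl | rfl | rfl | rfl <;>
    exact Subgroup.subset_closure (by simp [cLetters, L5.table])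

end Cfsg.Agent.Lib.ThK83
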