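import Cfsg.Agent.Lib.ThK83.Kernel

/-! Kernel-friendly checker for orbit certificates on the 17199 points. -/

namespace Cfsg.Agent.Lib.ThK83

/-- orbit certificate of one base point: the points, their positions, and for each position the
predecessor and the generator -/
structure Orb where
  b : Nat
  gens : List (List Nat)
  len : Nat
  pt : Tree
  idx : Tree
  par : Tree
  pg : Tree

/-- position `q` is reached -/
noncomputable def Tabs.reachOK (D : Tabs) (base : List Nat) (O : Orb) (q : Nat) : Bool :=
  hold (O.pt.get q) fun x =>
    band (Nat.blt x 17199) (band (Nat.beq (O.idx.get x) q)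
      (Nat.rec (motive := fun _ => Bool) (Nat.beq x (nth 0 base O.b))
        (fun _ _ => hold (O.par.get q) fun p => hold (O.pg.get q) fun k =>
          band (Nat.blt p q) (band (Nat.blt k O.gens.length)
            (Nat.beq (D.go (nth [] O.gens k) (O.pt.get p)) x))) q))

/-- all generators of later levels fix the base point of this one -/
noncomputable def Tabs.fixOK (D : Tabs) (base : List Nat) (O : Orb) (L : List Orb) : Bool :=
  forallB (fun P => forallB
    (fun s => Nat.beq (D.go s (nth 0 base O.b)) (nth 0 base O.b)) P.gens) L

/-- the orbit certificates of a base -/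
noncomputable def Tabs.orbsOK (D : Tabs) (base : List Nat) (L : List Orb) : Bool :=
  List.rec (motive := fun _ => Bool) true
    (fun O T ih => band ih (band (Nat.blt O.b base.length)
      (band (D.fixOK base O T) (rangeB (D.reachOK base O) O.len 0)))) L

/-- product of the orbit lengths -/
noncomputable def orbCard (L : List Orb) : Nat :=
  List.rec (motive := fun _ => Nat) 1 (fun O _ ih => Nat.mul O.len ih) L

/-- follow one letter list -/
noncomputable def Tabs.run (D : Tabs) (w : List Nat) : Nat → Nat :=
  List.rec (motive := fun _ => Nat → Nat) (fun p => p)
    (fun l _ ih p => hold (D.act l p) fun q => ih q) w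

/-- a list of letters fixes every point of the block `lo, ..., lo + len - 1` -/
noncomputable def Tabs.fixW (D : Tabs) (w : List Nat) (lo len : Nat) : Bool :=
  rangeB (fun p => Nat.beq (D.run w p) p) len lo

end Cfsg.Agent.Lib.ThK83
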