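import Cfsg.Agent.Lib.ThK83.Sound
import Cfsg.Agent.Lib.ThK83.OrbKernel

/-!
Soundness of the orbit certificates.
-/

set_option autoImplicit false

namespace Cfsg.Agent.Lib.ThK83

namespace Rep

variable {D : Tabs} {Q : Type*} [Group Q] (R : Rep D Q)

/-- the subgroup of a list of words -/
noncomputable def wgroup (ws : List (List ℕ)) : Subgroup Q :=
  Subgroup.closure (R.ev '' {u | u ∈ ws})

theorem wgroup_mono {ws ws' : List (List ℕ)} (h : ∀ u ∈ ws, u ∈ ws') :
    R.wgroup ws ≤ R.wgroup ws' :=
  Subgroup.closure_mono (Set.image_mono fun u hu => h u hu)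

theorem ev_mem_wgroup {ws : List (List ℕ)} {u : List ℕ} (h : u ∈ ws) : R.ev u ∈ R.wgroup ws :=
  Subgroup.subset_closure ⟨u, h, rfl⟩

section

variable {base : List ℕ} (hb : ∀ b ∈ base, b < 17199)
include hb

theorem nth_base_lt {b : ℕ} (h : b < base.length) : nth 0 base b < 17199 := by
  rw [nth_eq, List.getD_eq_getElem _ _ h]; exact hb _ (List.getElem_mem h)

/-- all generators of the certificates -/
def orbGens (L : List Orb) : List (List ℕ) := (L.map Orb.gens).flatten

theorem orbsOK_cons {O : Orb} {T : List Orb} (h : D.orbsOK base (O :: T) = true) :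
    D.orbsOK base T = true ∧ O.b < base.length ∧ D.fixOK base O T = true ∧
      ∀ q < O.len, D.reachOK base O q = true := by
  have h' : band (D.orbsOK base T) (band (Nat.blt O.b base.length)
      (band (D.fixOK base O T) (rangeB (D.reachOK base O) O.len 0))) = true := h
  simp only [band_eq, Bool.and_eq_true] at h'
  exact ⟨h'.1, Nat.le_of_ble_eq_true h'.2.1, h'.2.2.1,
    fun q hq => rangeB_spec h'.2.2.2 q (Nat.zero_le _) (by omega)⟩

/-- the product of the orbit lengths is a lower bound -/
theorem orbCard_mul_le [Finite Q] : ∀ (L : List Orb), D.orbsOK base L = true →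
    ∀ S : Subgroup Q, R.wgroup (orbGens L) ≤ S →
      orbCard L * Nat.card (S ⊓ R.fixList base : Subgroup Q) ≤ Nat.card S
  | [], _, S, _ => by
    simpa [orbCard] using Nat.le_of_dvd Nat.card_pos (Subgroup.card_dvd_of_le inf_le_left)
  | O :: T, h, S, hS => by
    obtain ⟨hT, hlb, hfix, hreach⟩ := orbsOK_cons hb h
    let β := nth 0 base O.b
    let F : Subgroup Q :=
      { carrier := {g | R.pt g β = β}
        one_mem' := R.pt_one β
        mul_mem' := fun {a b} ha hb' => by
          show R.pt (a * b) β = β
          rw [R.pt_mul, show R.pt a β = β from ha]; exact hb'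
        inv_mem' := fun {a} ha => R.pt_inv ha }
    have hle : R.wgroup (orbGens T) ≤ S ⊓ F := by
      refine le_inf ((R.wgroup_mono fun u hu => ?_).trans hS) ?_
      · simp only [orbGens, List.map_cons, List.flatten_cons, List.mem_append]
        exact Or.inr hu
      · rw [wgroup, Subgroup.closure_le]
        rintro _ ⟨u, hu, rfl⟩
        simp only [orbGens, List.mem_flatten, List.mem_map, Set.mem_setOf_eq] at hu
        obtain ⟨_, ⟨P, hP, rfl⟩, hu⟩ := hu
        have h' := forallB_iff.1 (forallB_iff.1 hfix P hP) u hu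
        rw [beqN_iff, R.go_eq _ _ (nth_base_lt hb hlb)] at h'
        exact h'
    have hinf : S ⊓ R.fixList base ≤ S ⊓ F ⊓ R.fixList base := by
      intro g hg
      refine ⟨⟨hg.1, ?_⟩, hg.2⟩
      refine hg.2 β ?_
      show nth 0 base O.b ∈ base
      rw [nth_eq, List.getD_eq_getElem _ _ hlb]
      exact List.getElem_mem hlb
    have ih := (Nat.mul_le_mul_left _ (Nat.le_of_dvd Nat.card_pos
      (Subgroup.card_dvd_of_le hinf))).trans (orbCard_mul_le T hT (S ⊓ F) hle)
    have hq : ∀ q, q < O.len → O.pt.get q < 17199 ∧ O.idx.get (O.pt.get q) = q ∧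
        ∃ w ∈ S, R.pt w β = O.pt.get q := by
      intro q
      induction q using Nat.strongRecOn with
      | _ q IH =>
        intro hq
        have h' : hold (O.pt.get q) (fun x =>
          band (Nat.blt x 17199) (band (Nat.beq (O.idx.get x) q)
            (Nat.rec (motive := fun _ => Bool) (Nat.beq x (nth 0 base O.b))
              (fun _ _ => hold (O.par.get q) fun p => hold (O.pg.get q) fun k =>
                band (Nat.blt p q) (band (Nat.blt k O.gens.length)
                  (Nat.beq (D.go (nth [] O.gens k) (O.pt.get p)) x))) q))) = true :=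
          hreach q hq
        simp only [hold_eq, band_eq, Bool.and_eq_true, beqN_iff] at h'
        obtain ⟨hx, hi, hrest⟩ := h'
        have hx' : O.pt.get q < 17199 := Nat.le_of_ble_eq_true hx
        refine ⟨hx', hi, ?_⟩
        rcases q with _ | q
        · exact ⟨1, one_mem _, (R.pt_one β).trans (beqN_iff.1 hrest).symm⟩
        · simp only [Bool.and_eq_true, beqN_iff] at hrest
          obtain ⟨hp, hg, he⟩ := hrest
          have hp' : O.par.get (q + 1) < q + 1 := Nat.le_of_ble_eq_true hp
          obtain ⟨hplt, -, w, hw, hwp⟩ := IH _ hp' (hp'.trans hq)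
          refine ⟨w * R.ev (nth [] O.gens (O.pg.get (q + 1))), mul_mem hw
            (hS (R.ev_mem_wgroup ?_)), ?_⟩
          · have hg' := Nat.le_of_ble_eq_true hg
            simp only [orbGens, List.map_cons, List.flatten_cons, List.mem_append]
            rw [nth_eq, List.getD_eq_getElem _ _ hg']
            exact Or.inl (List.getElem_mem _)
          · rw [R.pt_mul, hwp, ← R.go_eq _ _ hplt, he]
    choose w hw hwp using fun q : Fin O.len => (hq q q.2).2.2
    let φ : ↥(S ⊓ F) × Fin O.len → S := fun a => ⟨a.1.1 * w a.2, mul_mem a.1.2.1 (hw a.2)⟩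
    have hφ : Function.Injective φ := by
      rintro ⟨a, i⟩ ⟨a', i'⟩ e
      have e' : a.1 * w i = a'.1 * w i' := congrArg Subtype.val e
      have hpt : R.pt (a.1 * w i) β = R.pt (a'.1 * w i') β := by rw [e']
      rw [R.pt_mul, R.pt_mul, show R.pt a.1 β = β from a.2.2,
        show R.pt a'.1 β = β from a'.2.2, hwp, hwp] at hpt
      have hii : (i : ℕ) = i' := by rw [← (hq i i.2).2.1, ← (hq i' i'.2).2.1, hpt]
      obtain rfl := Fin.ext hii
      exact Prod.ext (Subtype.ext (mul_right_cancel e')) rfl
    have := Nat.card_le_card_of_injective φ hφ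
    rw [Nat.card_prod, Nat.card_fin] at this
    calc orbCard (O :: T) * Nat.card (S ⊓ R.fixList base : Subgroup Q)
        = orbCard T * Nat.card (S ⊓ R.fixList base : Subgroup Q) * O.len := by
          show O.len * orbCard T * _ = _; ring
      _ ≤ Nat.card ↥(S ⊓ F) * O.len := Nat.mul_le_mul_right _ ih
      _ ≤ Nat.card S := this

end

end Rep

end Cfsg.Agent.Lib.ThK83
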