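import Cfsg.Agent.Lib.ThK83.Perm
import Cfsg.Agent.Lib.ThK83.Orbit
import Cfsg.Agent.Lib.ThK83.Bound

/-!
`Kbar`, the group of the 17199 points: it satisfies the relators of groups 1-3, has order
634023936, is determined by three base points, and maps onto every group generated by seven
elements with these relators.
-/

set_option autoImplicit false

namespace Cfsg.Agent.Lib.ThK83

theorem run_eq : ∀ (w : List ℕ), (∀ l ∈ w, l < 9) → ∀ p < 17199,
    tabs.run w p = permRep.pt ((w.map permRep.f).prod) p
  | [], _, p, _ => (permRep.pt_one p).symm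
  | l :: w, h, p, hp => by
    have hl : l < 9 := h l (by simp)
    show hold (tabs.act l p) (fun q => tabs.run w q) = _
    rw [hold_eq, List.map_cons, List.prod_cons, permRep.pt_mul, permRep.pt_f l p hl hp]
    exact run_eq w (fun x hx => h x (by simp [hx])) _ (tabs_spec hl hp).1

theorem kVal_perm {l : ℕ} (hl : l < 9) :
    kVal (permRep.f 0) (permRep.f 1) (permRep.f 2) (permRep.f 3) (permRep.f 4) (permRep.f 5)
      (permRep.f 7) l = permRep.f l := by
  interval_cases l
  iterate 6 rfl
  · exact (permRep_inv (l := 5) (by decide)).symm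
  · rfl
  · exact (permRep_inv (l := 7) (by decide)).symm

theorem kRel_perm : KRel (permRep.f 0) (permRep.f 1) (permRep.f 2) (permRep.f 3) (permRep.f 4)
    (permRep.f 5) (permRep.f 7) := by
  intro w hw
  rw [List.map_congr_left fun l hl => kVal_perm (relW_lt w hw l hl)]
  refine perm_ext fun p hp => ?_
  have h := rangeB_spec (forallB_iff.1 rels_fix w hw) (p / 1911) (Nat.zero_le _) (by omega)
  have h' := rangeB_spec h p (by show p / 1911 * 1911 ≤ p; omega)
    (by show p < p / 1911 * 1911 + 1911; omega)
  rw [beqN_iff, run_eq w (relW_lt w hw) p hp] at h'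
  rw [h', permRep.pt_one]

theorem base_lt : ∀ b ∈ base, b < 17199 := by decide

/-- the elements of `Kbar` fix the base only if trivial -/
def BaseInj : Prop := rep.Inj base

theorem card_Kbar_aux : 634023936 * Nat.card (rep.fixList base) ≤ Nat.card Kbar := by
  have := rep.orbCard_mul_le base_lt _ orbs_ok ⊤ le_top
  rw [top_inf_eq, Subgroup.card_top] at this
  rwa [show orbCard [orb0, orb1, orb2] = 634023936 by decide +kernel] at this

theorem card_Kbar : Nat.card Kbar = 634023936 := by
  refine le_antisymm (card_closure_le kRel_perm).2 ?_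
  calc 634023936 ≤ 634023936 * Nat.card (rep.fixList base) :=
        Nat.le_mul_of_pos_right _ Nat.card_pos
    _ ≤ _ := card_Kbar_aux

theorem baseInj : BaseInj := by
  have h := card_Kbar_aux
  rw [card_Kbar] at h
  have h1 : Nat.card (rep.fixList base) ≤ 1 := by omega
  have h2 : rep.fixList base = ⊥ :=
    Subgroup.card_eq_one.1 (le_antisymm h1 Nat.card_pos)
  intro g hg
  have : g ∈ rep.fixList base := (rep.imgs_eq_iff g base).1 hg
  rw [h2] at this
  exact this

theorem closure_rep :
    Subgroup.closure ({rep.f 0, rep.f 1, rep.f 2, rep.f 3, rep.f 4, rep.f 5, rep.f 7} : Set Kbar) =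
      ⊤ := by
  apply Subgroup.map_injective Kbar.subtype_injective
  rw [MonoidHom.map_closure, ← MonoidHom.range_eq_map, Subgroup.range_subtype]
  simp only [Set.image_insert_eq, Set.image_singleton, Subgroup.coe_subtype]
  rfl

/-- `Kbar` maps onto every group generated by seven elements with the relators of groups 1-3 -/
theorem exists_hom {G : Type*} [Group G] {a b c d e s t : G} (h : KRel a b c d e s t) :
    ∃ φ : Kbar →* G, (∀ l < 9, φ (rep.f l) = kVal a b c d e s t l) ∧
      φ.range = Subgroup.closure {a, b, c, d, e, s, t} := by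
  have hp : KRel ((permRep.f 0, a) : Equiv.Perm (Fin 17199) × G) (permRep.f 1, b) (permRep.f 2, c)
      (permRep.f 3, d) (permRep.f 4, e) (permRep.f 5, s) (permRep.f 7, t) := by
    intro w hw
    refine Prod.ext ?_ ?_
    · rw [Prod.fst_one, ← kRel_perm w hw, ← MonoidHom.coe_fst, map_list_prod, List.map_map]
      exact congrArg List.prod (List.map_congr_left fun l hl =>
        map_kVal (MonoidHom.fst _ G) (permRep.f 0, a) (permRep.f 1, b) (permRep.f 2, c)
          (permRep.f 3, d) (permRep.f 4, e) (permRep.f 5, s) (permRep.f 7, t) (relW_lt w hw l hl))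
    · rw [Prod.snd_one, ← h w hw, ← MonoidHom.coe_snd, map_list_prod, List.map_map]
      exact congrArg List.prod (List.map_congr_left fun l hl =>
        map_kVal (MonoidHom.snd _ G) (permRep.f 0, a) (permRep.f 1, b) (permRep.f 2, c)
          (permRep.f 3, d) (permRep.f 4, e) (permRep.f 5, s) (permRep.f 7, t) (relW_lt w hw l hl))
  obtain ⟨hfin, hle⟩ := card_closure_le hp
  set K := Subgroup.closure ({(permRep.f 0, a), (permRep.f 1, b), (permRep.f 2, c),
    (permRep.f 3, d), (permRep.f 4, e), (permRep.f 5, s), (permRep.f 7, t)} :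
      Set (Equiv.Perm (Fin 17199) × G))
  have hmap : K.map (MonoidHom.fst _ _) = Kbar := by
    simp only [K, Kbar, MonoidHom.map_closure, Set.image_insert_eq, Set.image_singleton,
      MonoidHom.coe_fst]
  let π : K →* Kbar :=
    ((MonoidHom.fst _ _).comp K.subtype).codRestrict Kbar fun x => hmap ▸ ⟨x.1, x.2, rfl⟩
  have hsurj : Function.Surjective π := by
    rintro ⟨g, hg⟩
    rw [← hmap] at hg
    obtain ⟨x, hx, rfl⟩ := hg
    exact ⟨⟨x, hx⟩, rfl⟩
  have hbij : Function.Bijective π :=
    (Function.Surjective.bijective_of_nat_card_le hsurj (hle.trans card_Kbar.ge))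
  let E := MulEquiv.ofBijective π hbij
  let φ : Kbar →* G := ((MonoidHom.snd _ _).comp K.subtype).comp E.symm.toMonoidHom
  have key : ∀ l x, (permRep.f l, x) ∈ ({(permRep.f 0, a), (permRep.f 1, b), (permRep.f 2, c),
      (permRep.f 3, d), (permRep.f 4, e), (permRep.f 5, s), (permRep.f 7, t)} :
        Set (Equiv.Perm (Fin 17199) × G)) → φ (rep.f l) = x := by
    intro l x hx
    have hs : E.symm (rep.f l) = ⟨(permRep.f l, x), Subgroup.subset_closure hx⟩ :=
      E.symm_apply_eq.2 rfl
    simp only [φ, MonoidHom.comp_apply, MulEquiv.coe_toMonoidHom, hs, Subgroup.coe_subtype,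
      MonoidHom.coe_snd]
  have k0 := key 0 a (by simp)
  have k1 := key 1 b (by simp)
  have k2 := key 2 c (by simp)
  have k3 := key 3 d (by simp)
  have k4 := key 4 e (by simp)
  have k5 := key 5 s (by simp)
  have k7 := key 7 t (by simp)
  refine ⟨φ, fun l hl => ?_, ?_⟩
  · have k6 := congrArg φ (rep_inv (l := 5) (by decide))
    have k8 := congrArg φ (rep_inv (l := 7) (by decide))
    rw [map_inv, k5] at k6
    rw [map_inv, k7] at k8
    interval_cases l
    exacts [k0, k1, k2, k3, k4, k5, k6, k7, k8]
  · rw [MonoidHom.range_eq_map, ← closure_rep, MonoidHom.map_closure]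
    simp only [Set.image_insert_eq, Set.image_singleton, k0, k1, k2, k3, k4, k5, k7]

/-- the value of a packed word in the nine letters -/
noncomputable def wordVal {G : Type*} [Group G] (a b c d e s t : G) (u : List ℕ) : G :=
  ((decode u).map (kVal a b c d e s t)).prod

theorem hom_ev {G : Type*} [Group G] {a b c d e s t : G} {φ : Kbar →* G}
    (hφ : ∀ l < 9, φ (rep.f l) = kVal a b c d e s t l) (u : List ℕ) :
    φ (rep.ev u) = wordVal a b c d e s t u := by
  rw [Rep.ev, map_list_prod, List.map_map, wordVal]
  exact congrArg List.prod (List.map_congr_left fun l hl => hφ l (mem_decode_lt hl))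

/-- two words moving the base alike are equal in every group with the relators -/
theorem word_eq {G : Type*} [Group G] {a b c d e s t : G} (h : KRel a b c d e s t) {u v : List ℕ}
    (huv : tabs.same base u v = true) : wordVal a b c d e s t u = wordVal a b c d e s t v := by
  obtain ⟨φ, hφ, -⟩ := exists_hom h
  rw [← hom_ev hφ, ← hom_ev hφ, rep.eq_of_same base_lt baseInj huv]

open Cfsg.Spor in
/-- the images of `a, ..., t` in the presented Thompson group satisfy the relators -/
theorem kRel_th : KRel (G := Th) (PresentedGroup.of Th.Gen.a) (PresentedGroup.of Th.Gen.b)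
    (PresentedGroup.of Th.Gen.c) (PresentedGroup.of Th.Gen.d) (PresentedGroup.of Th.Gen.e)
    (PresentedGroup.of Th.Gen.s) (PresentedGroup.of Th.Gen.t) := by
  refine kRel_of_lift (fun x => PresentedGroup.of x) fun r hr => ?_
  exact PresentedGroup.one_of_mem (Or.inr hr) |> fun h => by
    rw [← h]
    exact DFunLike.congr_fun (FreeGroup.ext_hom _ _ fun x => by simp [PresentedGroup.of]) r

end Cfsg.Agent.Lib.ThK83
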