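import Cfsg.Agent.Lib.ThK83.Tables
import Cfsg.Agent.Lib.ThK83.OrbData

/-! Evaluation of the checks on the 17199 points. -/

set_option maxRecDepth 100000
set_option maxHeartbeats 0

namespace Cfsg.Agent.Lib.ThK83

theorem orbs_ok : tabs.orbsOK base [orb0, orb1, orb2] = true := by decide +kernel

/-- the relators of groups 1-3 as lists of letters -/
def relW : List (List Nat) := [[0, 0],
  [1, 1],
  [2, 2],
  [3, 3],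
  [4, 4],
  [0, 1, 0, 1, 0, 1],
  [0, 4, 0, 4],
  [1, 2, 1, 2, 1, 2],
  [1, 3, 1, 3],
  [1, 4, 1, 4],
  [0, 3, 2, 3, 2, 3, 2, 3, 2],
  [2, 4, 2, 4],
  [3, 4, 3, 4, 3, 4],
  [1, 2, 3, 4, 1, 2, 3, 4, 1, 2, 3, 4, 1, 2, 3, 4, 1, 2, 3, 4, 1, 2, 3, 4, 1, 2, 3, 4, 1, 2, 3, 4],
  [5, 5, 5, 5, 5, 5, 5],
  [6, 0, 5, 0],
  [6, 1, 5, 1],
  [6, 2, 5, 2],
  [5, 3, 5, 3],
  [4, 6, 4, 5, 6, 6, 6, 4, 5, 5, 5],
  [7, 7, 7],
  [8, 0, 7, 0],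
  [8, 1, 7, 1],
  [8, 2, 7, 2],
  [8, 3, 7, 3],
  [8, 4, 7, 4],
  [8, 5, 7, 6, 6]]

theorem rels_fix : forallB (fun w => rangeB (fun b => tabs.fixW w (Nat.mul b 1911) 1911) 9 0) relW =
    true := by decide +kernel

end Cfsg.Agent.Lib.ThK83
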