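import Cfsg.Agent.Lib.ThK83.Kernel

/-!
Kernel-friendly checker for the certificate of the subgroup generated by `a, b, c, d, e, s`:
the conjugates of `a`, the orbits of the centraliser of `a` on them, and the normal closures.
-/

namespace Cfsg.Agent.Lib.ThK83

/-- a conjugate of `a`: an element `k` commuting with `a`, its inverse, the number of the
representative, and the numbers of the conjugates under `a, b, c, d, e, s` -/
structure Cls where
  k : List Nat
  ki : List Nat
  j : Nat
  nx : List Nat

/-- a word of letters among `a, b, c, d, e, s, s⁻¹` -/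
noncomputable def inLow (u : List Nat) : Bool := forallB (fun l => Nat.blt l 7) (decode u)

/-- a pair of words inverse to each other, in the low letters -/
noncomputable def Tabs.pairOK (D : Tabs) (base : List Nat) (u v : List Nat) : Bool :=
  band (inLow u) (band (inLow v) (D.same base (u ++ v) []))

/-- the certificate -/
structure K0Cert where
  reps : List (List Nat × List Nat)
  cls : List (List Cls)
  ncs : List (List (List Nat × List Nat × Bool))
  gens : List (List Nat)
  comm : List Nat × List Nat

/-- the representative `j`, conjugated -/
noncomputable def K0Cert.repWord (C : K0Cert) (j : Nat) : List Nat :=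
  (nth ([], []) C.reps j).1 ++ ([1] ++ (nth ([], []) C.reps j).2)

/-- entry `i` -/
noncomputable def K0Cert.at (C : K0Cert) (i : Nat) : Cls :=
  nth ⟨[], [], 0, []⟩ (nth [] C.cls (Nat.div i 32)) (Nat.mod i 32)

/-- the word of a conjugate -/
noncomputable def K0Cert.clsWord (C : K0Cert) (i : Nat) : List Nat :=
  (C.at i).k ++ (C.repWord (C.at i).j ++ (C.at i).ki)

/-- entry `i` is right -/
noncomputable def Tabs.clsOK (D : Tabs) (base : List Nat) (C : K0Cert) (i : Nat) : Bool :=
  band (D.pairOK base (C.at i).k (C.at i).ki)
    (band (D.same base ((C.at i).k ++ [1]) ([1] ++ (C.at i).k))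
      (band (Nat.blt (C.at i).j C.reps.length)
        (rangeB (fun l => hold (nth 999 (C.at i).nx l) fun n => band (Nat.blt n 819)
          (D.same base ([Nat.succ l] ++ C.clsWord i) (C.clsWord n ++ [Nat.succ l]))) 6 0)))

/-- one factor of a normal closure -/
noncomputable def K0Cert.termWord (C : K0Cert) (j : Nat) (x : List Nat × List Nat × Bool) :
    List Nat :=
  x.1 ++ (Bool.rec (motive := fun _ => List Nat) ([1] ++ C.repWord j) (C.repWord j ++ [1]) x.2.2
    ++ x.2.1)

/-- the product of the factors -/
noncomputable def K0Cert.ncWord (C : K0Cert) (j : Nat)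
    (l : List (List Nat × List Nat × Bool)) : List Nat :=
  List.rec (motive := fun _ => List Nat) [] (fun x _ ih => C.termWord j x ++ ih) l

/-- `a` is in the normal closure of `a` times the representative `j` -/
noncomputable def Tabs.ncOK (D : Tabs) (base : List Nat) (C : K0Cert) (j : Nat) : Bool :=
  band (forallB (fun x => D.pairOK base x.1 x.2.1) (nth [] C.ncs j))
    (D.same base (C.ncWord j (nth [] C.ncs j)) [1])

/-- product of conjugates -/
noncomputable def K0Cert.genWord (C : K0Cert) (l : List Nat) : List Nat :=
  List.rec (motive := fun _ => List Nat) [] (fun i _ ih => C.clsWord i ++ ih) l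

/-- the letter `l` is a product of conjugates of `a` -/
noncomputable def Tabs.genOK (D : Tabs) (base : List Nat) (C : K0Cert) (l : Nat) : Bool :=
  band (forallB (fun i => Nat.blt i 819) (nth [] C.gens l))
    (D.same base (C.genWord (nth [] C.gens l)) [Nat.succ l])

/-- the representatives are right, the first one is trivial -/
noncomputable def Tabs.repsOK (D : Tabs) (base : List Nat) (C : K0Cert) : Bool :=
  band (D.same base [1, 1] [])
    (band (Nat.beq C.reps.length 4)
      (band (D.same base (C.repWord 0) [1])
        (band (D.same base (C.clsWord 0) [1])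
          (band (rangeB (fun j =>
              D.pairOK base (nth ([], []) C.reps j).1 (nth ([], []) C.reps j).2) 4 0)
            (band (rangeB (D.genOK base C) 6 0)
              (band (rangeB (D.ncOK base C) 3 1)
                (band (D.pairOK base C.comm.1 C.comm.2)
                  (D.same base (C.comm.1 ++ ([1] ++ (C.repWord 3 ++ ([1] ++ (C.repWord 3 ++ C.comm.2)))))
                    [1]))))))))

/-- the only points fixed by all of `hs` are those of `cyc` -/
noncomputable def Tabs.fixedIn (D : Tabs) (hs : List (List Nat)) (cyc : List Nat) (p : Nat) :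
    Bool :=
  Bool.rec (motive := fun _ => Bool) true (memN p cyc)
    (forallB (fun h => Nat.beq (D.go h p) p) hs)

/-- `hs` fixes the point `0`; `n` moves it around `cyc` -/
noncomputable def Tabs.cycOK (D : Tabs) (hs : List (List Nat)) (n : List Nat) (cyc : List Nat)
    (w15 w27 : List Nat) : Bool :=
  band (forallB (fun h => band (inLow h) (Nat.beq (D.go h 0) 0)) hs)
    (band (inLow n) (band (inLow w15) (band (inLow w27)
      (band (Nat.beq (D.go w15 0) 15) (band (Nat.beq (D.go w27 0) 27)
        (band (Nat.beq cyc.length 7) (band (Nat.beq (nth 0 cyc 0) 0)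
          (rangeB (fun k => Nat.beq (D.go n (nth 0 cyc k)) (nth 0 cyc (Nat.mod (Nat.succ k) 7)))
            7 0))))))))

end Cfsg.Agent.Lib.ThK83
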