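import Cfsg.Agent.Lib.LyH.Check

/-! Certificate data for a level of the chain, produced by a coset enumeration. -/

namespace Cfsg.Agent.Lib.ThK83.L2

open CosetTable (T)
open LyH (Cert Table)

/-- relators, subgroup words, facts and definitions -/
def cert : Cert where
  rels := [[], [0, 0], [8, 8], [0, 8, 0, 8], [10, 10, 10, 10, 10, 10, 10], [11, 0, 10, 0], [8, 11, 8, 10, 11, 11, 11, 8, 10, 10, 10], [12, 12, 12], [13, 0, 12, 0], [13, 8, 12, 8], [13, 10, 12, 11, 11]]
  subs := [[8], [10], [12]]
  facts := (T.leaf 0x400002c00000400002a00000400002800000400000000000000002000000000000c00000000000a000000000008)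
  defs := (T.leaf 0x1f)

/-- the final table -/
def table : Table where
  n := 2
  gens := [0, 8, 10, 12]
  node := 0x1000000
  perms := [0x1, 0x10000, 0x10000, 0x10000]
  eids := [0x4000003, 0x5000000, 0x6000001, 0x7000002]

end Cfsg.Agent.Lib.ThK83.L2
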