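import Mathlib
import Cfsg.Prelude.Def_Spor_Th
import Cfsg.Agent.Lib.ThK83.Check

/-!
Seven elements of a group satisfying the relators of groups 1-3 of the presentation of the
Thompson group.
-/

set_option autoImplicit false

namespace Cfsg.Agent.Lib.ThK83

variable {G : Type*} [Group G]

/-- the values of the nine letters `a b c d e s s⁻¹ t t⁻¹` -/
def kVal (a b c d e s t : G) (l : ℕ) : G :=
  [a, b, c, d, e, s, s⁻¹, t, t⁻¹].getD l 1

/-- the relators of groups 1-3 -/
def KRel (a b c d e s t : G) : Prop :=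
  ∀ w ∈ relW, (w.map (kVal a b c d e s t)).prod = 1

theorem relW_lt : ∀ w ∈ relW, ∀ l ∈ w, l < 9 := by decide

theorem map_kVal {H : Type*} [Group H] (φ : G →* H) (a b c d e s t : G) {l : ℕ} (hl : l < 9) :
    φ (kVal a b c d e s t l) = kVal (φ a) (φ b) (φ c) (φ d) (φ e) (φ s) (φ t) l := by
  interval_cases l <;> simp [kVal]

theorem KRel.map {H : Type*} [Group H] (φ : G →* H) {a b c d e s t : G}
    (h : KRel a b c d e s t) : KRel (φ a) (φ b) (φ c) (φ d) (φ e) (φ s) (φ t) := by
  intro w hw
  have := congrArg φ (h w hw)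
  rw [map_list_prod, List.map_map, map_one] at this
  rw [← this]
  exact congrArg List.prod (List.map_congr_left fun l hl =>
    (map_kVal φ a b c d e s t (relW_lt w hw l hl)).symm)

theorem sq_of (x : G) (h : x * x = 1) : x⁻¹ = x := inv_eq_of_mul_eq_one_right h

open Cfsg.Spor.Th in
/-- values of the eight generators killing the relators of the presentation satisfy them -/
theorem kRel_of_lift (f : Gen → G) (h : ∀ r ∈ extra, FreeGroup.lift f r = 1) :
    KRel (f .a) (f .b) (f .c) (f .d) (f .e) (f .s) (f .t) := by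
  simp only [extra, List.forall_mem_cons, List.not_mem_nil, false_imp_iff, implies_true,
    and_true, map_mul, map_inv, map_pow, FreeGroup.lift_apply_of] at h
  obtain ⟨h1, h2, h3, h4, h5, h6, h7, h8, h9, h10, h11, h12, h13, h14, h15, h16, h17, h18, h19,
    h20, h21, h22, h23, h24, h25, h26, h27, -⟩ := h
  have ia := sq_of (f .a) (by rw [← pow_two, h1])
  have ib := sq_of (f .b) (by rw [← pow_two, h2])
  have ic := sq_of (f .c) (by rw [← pow_two, h3])
  have id' := sq_of (f .d) (by rw [← pow_two, h4])
  have ie := sq_of (f .e) (by rw [← pow_two, h5])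
  simp only [KRel, relW, List.forall_mem_cons, List.not_mem_nil, false_imp_iff, implies_true,
    and_true]
  refine ⟨?_, ?_, ?_, ?_, ?_, ?_, ?_, ?_, ?_, ?_, ?_, ?_, ?_, ?_, ?_, ?_, ?_, ?_, ?_, ?_, ?_,
    ?_, ?_, ?_, ?_, ?_, ?_⟩
  all_goals simp only [kVal, List.map_cons, List.map_nil, List.prod_cons, List.prod_nil,
    List.getD_cons_zero, List.getD_cons_succ, mul_one]
  all_goals simp only [pow_succ, pow_zero, one_mul, mul_inv_rev, inv_inv, ia, ib, ic, id', ie,
    mul_assoc] at *
  all_goals assumption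

end Cfsg.Agent.Lib.ThK83
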